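import Groth.Agent.Lib.KA1.Poly

/-!
# Restriction of K-groups from the affine line to the torus
-/

set_option autoImplicit false
set_option linter.style.haveILetI false
set_option backward.isDefEq.respectTransparency false
set_option backward.isDefEq.respectTransparency.types false

universe u

open CategoryTheory CategoryTheory.Limits AlgebraicGeometry TopologicalSpace Opposite TensorProduct

namespace Groth.Agent.KA1

open Groth.Agent Groth.Agent.CohFound KCoh4


variable (X : Scheme.{u})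


/-- The coordinate. -/
noncomputable abbrev tt : Γ(𝔸(ULift.{u} (Fin 1); X), ⊤) := AffineSpace.coord X (ULift.up (0 : Fin 1))

/-- The zero section. -/
noncomputable def zs : X ⟶ 𝔸(ULift.{u} (Fin 1); X) := AffineSpace.homOfVector (𝟙 X) fun _ => 0

theorem zs_over : zs X ≫ (𝔸(ULift.{u} (Fin 1); X) ↘ X) = 𝟙 X := AffineSpace.homOfVector_over _ _

instance : IsClosedImmersion (zs X) := by
  haveI : IsClosedImmersion (zs X ≫ (𝔸(ULift.{u} (Fin 1); X) ↘ X)) := by rw [zs_over]; infer_instance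
  exact IsClosedImmersion.of_comp (zs X) (𝔸(ULift.{u} (Fin 1); X) ↘ X)

theorem appTop_tt : (zs X).appTop (tt X) = 0 := AffineSpace.homOfVector_appTop_coord _ _ _

theorem zs_preimage (V : X.Opens) : zs X ⁻¹ᵁ pre (ULift.{u} (Fin 1)) X V = V := by
  rw [show zs X ⁻¹ᵁ pre (ULift.{u} (Fin 1)) X V = (zs X ≫ (𝔸(ULift.{u} (Fin 1); X) ↘ X)) ⁻¹ᵁ V from rfl, zs_over]
  rfl

theorem appLE_crd (V : X.Opens) :
    (zs X).appLE (pre (ULift.{u} (Fin 1)) X V) V (zs_preimage X V).ge (crd (ULift.{u} (Fin 1)) X V (ULift.up (0 : Fin 1))) = 0 := by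
  show ((𝔸(ULift.{u} (Fin 1); X)).presheaf.map (homOfLE le_top).op ≫ (zs X).appLE _ V _) _ = 0
  rw [Scheme.Hom.map_appLE, Scheme.Hom.appLE, CommRingCat.comp_apply,
    show (zs X).app ⊤ (AffineSpace.coord X (ULift.up (0 : Fin 1))) = 0 from appTop_tt X, map_zero]

theorem ker_zs : (zs X).ker = Scheme.IdealSheafData.ofIdealTop (Ideal.span {tt X}) := by
  let W : X.affineOpens → (𝔸(ULift.{u} (Fin 1); X)).affineOpens := fun V => ⟨pre (ULift.{u} (Fin 1)) X V.1, V.2.preimage (𝔸(ULift.{u} (Fin 1); X) ↘ X)⟩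
  refine Scheme.IdealSheafData.ext_of_iSup_eq_top W ?_ fun V => ?_
  · show ⨆ V : X.affineOpens, (𝔸(ULift.{u} (Fin 1); X) ↘ X) ⁻¹ᵁ V.1 = ⊤
    rw [← Scheme.Hom.preimage_iSup, iSup_affineOpens_eq_top, Scheme.Hom.preimage_top]
  rw [Scheme.Hom.ker_apply, Scheme.IdealSheafData.ofIdealTop_ideal, Ideal.map_span, Set.image_singleton]
  let c := crd (ULift.{u} (Fin 1)) X V.1 (ULift.up (0 : Fin 1))
  change RingHom.ker ((zs X).app (pre (ULift.{u} (Fin 1)) X V.1)).hom = Ideal.span {c}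
  refine le_antisymm (fun a ha => ?_) ?_
  · obtain ⟨f, rfl⟩ := (bijective_ev (ULift.{u} (Fin 1)) X V.2).2 a
    have h2 : (f - MvPolynomial.C (MvPolynomial.constantCoeff f)) ∈
        Ideal.span {(MvPolynomial.X (ULift.up (0 : Fin 1)) : MvPolynomial (ULift.{u} (Fin 1)) Γ(X, V.1))} := by
      refine Ideal.mem_span_singleton.2 (MvPolynomial.X_dvd_iff_modMonomial_eq_zero.2 ?_)
      ext s
      by_cases hs : (Finsupp.single (ULift.up (0 : Fin 1)) 1) ≤ s
      · rw [MvPolynomial.coeff_modMonomial_of_le _ hs, MvPolynomial.coeff_zero]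
      · rw [MvPolynomial.coeff_modMonomial_of_not_le _ hs]
        have hs0 : s = 0 := by
          refine Finsupp.ext fun i => ?_
          have hi : i = ULift.up (0 : Fin 1) := Subsingleton.elim _ _
          subst hi
          simp only [Finsupp.single_le_iff, not_le, Nat.lt_one_iff] at hs
          simpa using hs
        subst hs0
        simp [MvPolynomial.constantCoeff_eq]
    have h3 : ev (ULift.{u} (Fin 1)) X V.1 (f - MvPolynomial.C (MvPolynomial.constantCoeff f)) ∈ Ideal.span {c} := by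
      have := Ideal.mem_map_of_mem (ev (ULift.{u} (Fin 1)) X V.1) h2
      rw [Ideal.map_span, Set.image_singleton, MvPolynomial.eval₂Hom_X'] at this
      exact this
    obtain ⟨b, hb⟩ := Ideal.mem_span_singleton.1 h3
    let φ := ((zs X).appLE (pre (ULift.{u} (Fin 1)) X V.1) V.1 (zs_preimage X V.1).ge).hom
    have ha' : φ (ev (ULift.{u} (Fin 1)) X V.1 f) = 0 := by
      show ((zs X).app _ ≫ X.presheaf.map _) (ev (ULift.{u} (Fin 1)) X V.1 f) = 0
      rw [CommRingCat.comp_apply, show (zs X).app (pre (ULift.{u} (Fin 1)) X V.1) (ev (ULift.{u} (Fin 1)) X V.1 f) = 0 from ha, map_zero]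
    have hC : ∀ r, φ (ev (ULift.{u} (Fin 1)) X V.1 (MvPolynomial.C r)) = r := fun r => by
      rw [MvPolynomial.eval₂Hom_C]
      show (((𝔸(ULift.{u} (Fin 1); X) ↘ X)).app V.1 ≫ (zs X).appLE (pre (ULift.{u} (Fin 1)) X V.1) V.1 _) r = r
      have e : ((𝔸(ULift.{u} (Fin 1); X) ↘ X)).app V.1 ≫
          (zs X).appLE (pre (ULift.{u} (Fin 1)) X V.1) V.1 (zs_preimage X V.1).ge = 𝟙 _ := by
        rw [Scheme.Hom.app_eq_appLE, Scheme.Hom.appLE_comp_appLE]
        simp only [zs_over]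
        simp [Scheme.Hom.appLE]
        exact X.presheaf.map_id _
      rw [e]
      rfl
    have h0 : MvPolynomial.constantCoeff f = 0 := by
      have := congrArg φ hb
      rw [map_sub, map_sub, ha', hC, map_mul, show φ c = 0 from appLE_crd X V.1, zero_mul, zero_sub, neg_eq_zero] at this
      exact this
    rw [h0, map_zero, sub_zero] at h3
    exact h3
  · rw [Ideal.span_singleton_le_iff_mem, RingHom.mem_ker]
    show ((𝔸(ULift.{u} (Fin 1); X)).presheaf.map (homOfLE le_top).op ≫ (zs X).app (pre (ULift.{u} (Fin 1)) X V.1)) (tt X) = 0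
    rw [Scheme.Hom.naturality, CommRingCat.comp_apply,
      show (zs X).app ⊤ (tt X) = 0 from appTop_tt X, map_zero]

theorem range_zs : Set.range (zs X) = ((𝔸(ULift.{u} (Fin 1); X)).basicOpen (tt X) : Set 𝔸(ULift.{u} (Fin 1); X))ᶜ := by
  have h := congrArg (fun I => (I.support : Set 𝔸(ULift.{u} (Fin 1); X))) (ker_zs X)
  simp only [Scheme.Hom.support_ker, Scheme.IdealSheafData.coe_support_ofIdealTop,
    (zs X).isClosedEmbedding.isClosed_range.closure_eq] at h
  rw [h, Scheme.zeroLocus_span, Scheme.zeroLocus_singleton]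

theorem ker_ideal (U : (𝔸(ULift.{u} (Fin 1); X)).affineOpens) :
    (zs X).ker.ideal U = Ideal.span {(𝔸(ULift.{u} (Fin 1); X)).presheaf.map (homOfLE le_top).op (tt X)} := by
  rw [ker_zs, Scheme.IdealSheafData.ofIdealTop_ideal, Ideal.map_span, Set.image_singleton]

theorem smul_app_apply (F : 𝔸(ULift.{u} (Fin 1); X).Modules) (r : Γ(𝔸(ULift.{u} (Fin 1); X), ⊤))
    (U : (𝔸(ULift.{u} (Fin 1); X)).Opens) (s : Γ(F, U)) :
    (Formal.smulModΓ F r).app U s =
      ((𝔸(ULift.{u} (Fin 1); X)).presheaf.map (homOfLE (le_top : U ≤ ⊤)).op r : Γ(𝔸(ULift.{u} (Fin 1); X), U)) • s := by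
  rfl

theorem tt_smul_zero {C : (𝔸(ULift.{u} (Fin 1); X)).Modules} (h : Formal.smulModΓ C (tt X) = 0) (U : (𝔸(ULift.{u} (Fin 1); X)).affineOpens)
    (a : Γ(𝔸(ULift.{u} (Fin 1); X), U.1)) (ha : a ∈ (zs X).ker.ideal U) (s : Γ(C, U.1)) : a • s = 0 := by
  rw [ker_ideal] at ha
  obtain ⟨b, rfl⟩ := Ideal.mem_span_singleton.1 ha
  rw [mul_comm, mul_smul]
  have : (𝔸(ULift.{u} (Fin 1); X)).presheaf.map (homOfLE le_top).op (tt X) • s = 0 :=
    (smul_app_apply X C (tt X) U.1 s).symm.trans (by rw [h]; rfl)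
  rw [this, smul_zero]

theorem smul_natural {F G : (𝔸(ULift.{u} (Fin 1); X)).Modules} (f : F ⟶ G) (r : Γ(𝔸(ULift.{u} (Fin 1); X), ⊤)) :
    Formal.smulModΓ F r ≫ f = f ≫ Formal.smulModΓ G r :=
  Scheme.Modules.hom_ext _ _ fun U => by
    ext s
    exact f.app_smul (Coh.resTop 𝔸(ULift.{u} (Fin 1); X) (op U) r) s

theorem mono_smul_pullback {M : X.Modules} (hM : Coh.IsQCoh M) :
    Mono (Formal.smulModΓ ((Scheme.Modules.pullback (𝔸(ULift.{u} (Fin 1); X) ↘ X)).obj M) (tt X)) := by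
  haveI := hM
  let G := (Scheme.Modules.pullback (𝔸(ULift.{u} (Fin 1); X) ↘ X)).obj M
  haveI : Coh.IsQCoh G := M1.isQCoh_pullback (𝔸(ULift.{u} (Fin 1); X) ↘ X) hM
  refine (M1.mono_iff_stalk _).2 fun y => (injective_iff_map_eq_zero _).2 ?_
  intro (a : G.presheaf.stalk y) (ha : stL (Formal.smulModΓ G (tt X)) y a = 0)
  show a = 0
  obtain ⟨V, hV, hyV⟩ : ∃ V, IsAffineOpen V ∧ (𝔸(ULift.{u} (Fin 1); X) ↘ X) y ∈ V := by
    obtain ⟨_, ⟨V, hV, rfl⟩, hy, -⟩ := X.isBasis_affineOpens.exists_subset_of_mem_open (Set.mem_univ ((𝔸(ULift.{u} (Fin 1); X) ↘ X) y)) isOpen_univ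
    exact ⟨V, hV, hy⟩
  have hy : y ∈ pre (ULift.{u} (Fin 1)) X V := hyV
  have hW : IsAffineOpen (pre (ULift.{u} (Fin 1)) X V) := hV.preimage (𝔸(ULift.{u} (Fin 1); X) ↘ X)
  obtain ⟨r, m, hr, hm⟩ := M1.exists_germ_smul_eq G hW hy a
  let c := crd (ULift.{u} (Fin 1)) X V (ULift.up (0 : Fin 1))
  obtain ⟨Φ, -⟩ := ModLimH13.exists_pullEquiv (𝔸(ULift.{u} (Fin 1); X) ↘ X) M (le_refl (pre (ULift.{u} (Fin 1)) X V)) hV hW
  have hinj : ∀ w : Γ(G, pre (ULift.{u} (Fin 1)) X V), c • w = 0 → w = 0 := fun w hw => by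
    letI := (((𝔸(ULift.{u} (Fin 1); X) ↘ X)).appLE V (pre (ULift.{u} (Fin 1)) X V) le_rfl).hom.toAlgebra
    apply Φ.symm.injective
    rw [map_zero]
    have h := tmul_coord_injective X hV (ULift.up (0 : Fin 1)) Γ(M, V)
    exact h (Φ.symm w) (by
      have h2 : Φ.symm (c • w) = 0 := by rw [hw, map_zero]
      rw [map_smul] at h2
      exact h2)
  letI := M1.stalkModule G hy
  haveI := M1.isLocalizedModule_germ G hW hy
  have hm0 : M1.germₗ G hy (c • m) = 0 := by
    show G.presheaf.germ _ y hy (c • m) = 0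
    have h1 : (Scheme.Modules.Hom.app (Formal.smulModΓ G (tt X)) (pre (ULift.{u} (Fin 1)) X V)) m = c • m := rfl
    rw [← h1]
    have h2 := congrArg (fun b => (𝔸(ULift.{u} (Fin 1); X)).presheaf.germ _ y hy r • b) ha
    rw [smul_zero] at h2
    refine Eq.trans ?_ h2
    rw [← stL_germ (Formal.smulModΓ G (tt X)) hy m, ← hm]
    exact (stL (Formal.smulModΓ G (tt X)) y).map_smul _ _
  obtain ⟨d, hd⟩ := (IsLocalizedModule.eq_zero_iff (hW.primeIdealOf ⟨y, hy⟩).asIdeal.primeCompl _).1 hm0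
  have hd' : (d : Γ(𝔸(ULift.{u} (Fin 1); X), pre (ULift.{u} (Fin 1)) X V)) • m = 0 := hinj _ (by rw [smul_comm]; exact hd)
  have : G.presheaf.germ _ y hy m = 0 := by
    refine (IsLocalizedModule.eq_zero_iff (hW.primeIdealOf ⟨y, hy⟩).asIdeal.primeCompl (M1.germₗ G hy)).2 ⟨d, hd'⟩
  rw [← hm] at this
  exact hr.smul_eq_zero.1 this

/-- Classes pushed forward from the zero section vanish. -/
theorem kc_push_eq_zero [IsNoetherian X] [IsNoetherian 𝔸(ULift.{u} (Fin 1); X)] {M : X.Modules} (hM : Coh.IsCoh M) :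
    kc ((Scheme.Modules.pushforward (zs X)).obj M) = 0 := by
  let G := (Scheme.Modules.pullback (𝔸(ULift.{u} (Fin 1); X) ↘ X)).obj M
  have hG : Coh.IsCoh G := M1.isCoh_pullback (𝔸(ULift.{u} (Fin 1); X) ↘ X) hM
  let u := Formal.smulModΓ G (tt X)
  haveI : Mono u := mono_smul_pullback X hM.1
  let C := cokernel u
  have hC : Coh.IsCoh C := M1.isCoh_cokernel hG.1 hG u
  let S : ShortComplex (𝔸(ULift.{u} (Fin 1); X)).Modules := ShortComplex.mk u (cokernel.π u) (cokernel.condition u)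
  have hS : S.ShortExact := ShortComplex.ShortExact.mk' (ShortComplex.exact_cokernel u) inferInstance inferInstance
  have h1 : kc C = 0 := by
    have := kc_ses hS hG hG hC
    exact left_eq_add.1 this
  have hCt : Formal.smulModΓ C (tt X) = 0 := by
    rw [← cancel_epi (cokernel.π u), comp_zero, ← smul_natural, cokernel.condition]
  haveI := M1.isIso_unit_of_ker_smul (zs X) C hC.1 fun U a ha s => tt_smul_zero X hCt U a ha s
  let adj := Scheme.Modules.pullbackPushforwardAdjunction (zs X)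
  have hu0 : (Scheme.Modules.pullback (zs X)).map u = 0 := by
    have h2 : u ≫ adj.unit.app G = 0 := by
      rw [smul_natural]
      refine (congrArg (adj.unit.app G ≫ ·) ?_).trans comp_zero
      refine Scheme.Modules.hom_ext _ _ fun U => ?_
      ext s
      refine M1.section_ext _ _ fun x hx => ?_
      obtain ⟨_, ⟨U', hU', rfl⟩, hxU', hle⟩ := (𝔸(ULift.{u} (Fin 1); X)).isBasis_affineOpens.exists_subset_of_mem_open hx U.2
      have hle' : (⟨_, U'.2⟩ : (𝔸(ULift.{u} (Fin 1); X)).Opens) ≤ U := hle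
      refine ((M1.germ_mres _ hle' hxU' _).symm.trans ((congrArg _ ?_).trans (map_zero _))).trans (map_zero _).symm
      refine (M1.app_mres _ hle' s).symm.trans ?_
      exact ker_smul_push (zs X) _ ⟨U', hU'⟩ _ (by
        rw [ker_ideal]; exact Ideal.mem_span_singleton_self _) _
    apply (adj.homEquiv _ _).injective
    rw [adj.homEquiv_unit, adj.homEquiv_unit, Functor.map_zero, comp_zero]
    exact ((adj.unit.naturality u).symm.trans h2)
  let e : (Scheme.Modules.pullback (zs X)).obj C ≅ M :=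
    PreservesCokernel.iso (Scheme.Modules.pullback (zs X)) u ≪≫ cokernelIsoOfEq hu0 ≪≫ cokernelZeroIsoTarget ≪≫
      (Scheme.Modules.pullbackComp (zs X) (𝔸(ULift.{u} (Fin 1); X) ↘ X)).app M ≪≫
      (Scheme.Modules.pullbackCongr (zs_over X)).app M ≪≫ (Scheme.Modules.pullbackId (X := X)).app M
  rw [← h1]
  exact kc_iso (((Scheme.Modules.pushforward (zs X)).mapIso e).symm ≪≫ (asIso (adj.unit.app C)).symm)

theorem bijective_restrict [IsNoetherian X] {U : Scheme.{u}} (j : U ⟶ 𝔸(ULift.{u} (Fin 1); X)) [IsOpenImmersion j]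
    (hU : Set.range j = ((𝔸(ULift.{u} (Fin 1); X)).basicOpen (tt X) : Set 𝔸(ULift.{u} (Fin 1); X)))
    [PreservesFiniteLimits (Scheme.Modules.restrictFunctor j)]
    (hj : ∀ M : (𝔸(ULift.{u} (Fin 1); X)).Modules, Coh.IsCoh M → Coh.IsCoh ((Scheme.Modules.restrictFunctor j).obj M)) :
    Function.Bijective (SGA6.mapSub (Scheme.Modules.restrictFunctor j) (fun M : (𝔸(ULift.{u} (Fin 1); X)).Modules => Coh.IsCoh M)
      (fun M : (U).Modules => Coh.IsCoh M) hj) := by
  haveI : IsLocallyNoetherian 𝔸(ULift.{u} (Fin 1); X) := LocallyOfFiniteType.isLocallyNoetherian (𝔸(ULift.{u} (Fin 1); X) ↘ X)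
  haveI : CompactSpace 𝔸(ULift.{u} (Fin 1); X) := QuasiCompact.compactSpace_of_compactSpace (𝔸(ULift.{u} (Fin 1); X) ↘ X)
  haveI : IsNoetherian 𝔸(ULift.{u} (Fin 1); X) := {}
  haveI : PreservesFiniteColimits (Scheme.Modules.pushforward (zs X)) := RHom.preservesFiniteColimits_push (zs X)
  haveI : PreservesLimitsOfSize.{0, 0} (Scheme.Modules.pushforward (zs X)) :=
    (Scheme.Modules.pullbackPushforwardAdjunction (zs X)).rightAdjoint_preservesLimits
  obtain ⟨hsurj, hker⟩ := KCoh4.localization (zs X) j (by rw [hU, range_zs, compl_compl])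
    (fun M hM => CohFound.isCoh_push_closedImm (zs X) hM) hj
  refine ⟨(injective_iff_map_eq_zero _).2 fun x hx => ?_, hsurj⟩
  obtain ⟨y, rfl⟩ := hker.le hx
  clear hx
  induction y using K0Cat.clSub_induction with
  | h0 => exact map_zero _
  | hcl M hM => rw [mapSub_kc _ _ hM]; exact kc_push_eq_zero X hM
  | hneg a h => rw [map_neg, h, neg_zero]
  | hadd a b h1 h2 => rw [map_add, h1, h2, add_zero]

end Groth.Agent.KA1
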