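import Groth.Agent.Lib.KCoh4.Loc
import Groth.Agent.Lib.ModLimH13.Sections
import Groth.Agent.Lib.RHom.ProjClosed
import Groth.Prelude.Def_Formal
import Mathlib.AlgebraicGeometry.AffineSpace
import Mathlib.Algebra.MvPolynomial.Division

/-!
# Sections of the affine line over an affine open of the base
-/

set_option autoImplicit false
set_option linter.style.haveILetI false
set_option backward.isDefEq.respectTransparency.types false

universe u

open CategoryTheory CategoryTheory.Limits AlgebraicGeometry TopologicalSpace Opposite TensorProduct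

namespace Groth.Agent.KA1

open Groth.Agent

variable (n : Type u) (X : Scheme.{u}) (V : X.Opens)

/-- The preimage of an open in affine space. -/
noncomputable abbrev pre : (𝔸(n; X)).Opens := (𝔸(n; X) ↘ X) ⁻¹ᵁ V

/-- A coordinate over an open of the base. -/
noncomputable abbrev crd (i : n) : Γ(𝔸(n; X), pre n X V) :=
  (𝔸(n; X)).presheaf.map (homOfLE le_top).op (AffineSpace.coord X i)

/-- Polynomials as functions on affine space over an open of the base. -/
noncomputable abbrev ev : MvPolynomial n Γ(X, V) →+* Γ(𝔸(n; X), pre n X V) :=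
  MvPolynomial.eval₂Hom ((𝔸(n; X) ↘ X).app V).hom (crd n X V)

variable {V}

theorem bijective_ev (hV : IsAffineOpen V) : Function.Bijective (ev n X V) := by
  haveI : IsAffine V.toScheme := hV
  let j := AffineSpace.map n V.ι
  have H : IsPullback j (𝔸(n; V.toScheme) ↘ V.toScheme) (𝔸(n; X) ↘ X) V.ι := AffineSpace.isPullback_map V.ι
  haveI : IsOpenImmersion j := MorphismProperty.of_isPullback H.flip inferInstance
  have hrange : Set.range j = (pre n X V : Set 𝔸(n; X)) := by
    rw [← H.isoPullback_hom_fst, Scheme.Hom.comp_base, TopCat.coe_comp, Set.range_comp,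
      Set.range_eq_univ.2 H.isoPullback.hom.surjective, Set.image_univ, Scheme.Pullback.range_fst,
      Scheme.Opens.range_ι]
    rfl
  have hle : (⊤ : (𝔸(n; V.toScheme)).Opens) ≤ j ⁻¹ᵁ pre n X V := fun z _ =>
    SetLike.mem_coe.1 (hrange ▸ Set.mem_range_self z : j z ∈ (pre n X V : Set 𝔸(n; X)))
  haveI : IsIso (j.app (pre n X V)) := Scheme.Hom.isIso_app j _ fun x hx => by
    show x ∈ (j.opensRange : Set 𝔸(n; X))
    rw [Scheme.Hom.coe_opensRange, hrange]; exact hx
  have htop : j ⁻¹ᵁ pre n X V = ⊤ := top_le_iff.1 hle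
  have hψ : Function.Bijective (j.appLE (pre n X V) ⊤ hle) := by
    haveI : IsIso ((𝔸(n; V.toScheme)).presheaf.map (homOfLE hle).op) := by
      haveI : IsIso (homOfLE hle) := ⟨homOfLE htop.le, Subsingleton.elim _ _, Subsingleton.elim _ _⟩
      infer_instance
    haveI : IsIso (j.appLE (pre n X V) ⊤ hle) := by rw [Scheme.Hom.appLE]; infer_instance
    exact ConcreteCategory.bijective_of_isIso _
  let ρ : Γ(X, V) →+* Γ(V.toScheme, ⊤) := (V.ι.appLE V ⊤ (by simp)).hom
  have hρ : Function.Bijective ρ := by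
    have : (V.ι.appLE V ⊤ (by simp)) = V.topIso.inv := by
      rw [Scheme.Opens.ι_appLE]
      rfl
    show Function.Bijective (V.ι.appLE V ⊤ (by simp))
    rw [this]
    exact ConcreteCategory.bijective_of_isIso _
  let ev' : MvPolynomial n Γ(V.toScheme, ⊤) →+* Γ(𝔸(n; V.toScheme), ⊤) :=
    MvPolynomial.eval₂Hom ((𝔸(n; V.toScheme) ↘ V.toScheme).appTop).hom (AffineSpace.coord V.toScheme)
  have hev : Function.Bijective ev' := by
    haveI : IsIso (AffineSpace.isoOfIsAffine n V.toScheme).hom.appTop :=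
      inferInstanceAs (IsIso (Scheme.Γ.map (AffineSpace.isoOfIsAffine n V.toScheme).hom.op))
    have h := ConcreteCategory.bijective_of_isIso (AffineSpace.isoOfIsAffine n V.toScheme).hom.appTop
    rw [AffineSpace.isoOfIsAffine_hom_appTop] at h
    exact (Function.Bijective.of_comp_iff _ (ConcreteCategory.bijective_of_isIso
      (Scheme.ΓSpecIso (CommRingCat.of (MvPolynomial n Γ(V.toScheme, ⊤)))).hom)).1 h
  have key : (j.appLE (pre n X V) ⊤ hle).hom.comp (ev n X V) = ev'.comp (MvPolynomial.map ρ) := by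
    refine MvPolynomial.ringHom_ext (fun a => ?_) fun i => ?_
    · simp only [RingHom.comp_apply, MvPolynomial.eval₂Hom_C, MvPolynomial.map_C, ev']
      show ((𝔸(n; X) ↘ X).app V ≫ j.appLE (pre n X V) ⊤ hle) a =
        (V.ι.appLE V ⊤ _ ≫ (𝔸(n; V.toScheme) ↘ V.toScheme).appTop) a
      have e1 : (𝔸(n; X) ↘ X).app V ≫ j.appLE (pre n X V) ⊤ hle =
          V.ι.appLE V ⊤ (by simp) ≫ (𝔸(n; V.toScheme) ↘ V.toScheme).appLE ⊤ ⊤ le_top := by
        rw [Scheme.Hom.app_eq_appLE]
        refine (Scheme.Hom.appLE_comp_appLE _ _ _ _ _ _ _).trans (Eq.trans ?_ (Scheme.Hom.appLE_comp_appLE _ _ _ _ _ _ _).symm)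
        simp only [H.w]
      rw [e1, Scheme.Hom.appTop, Scheme.Hom.app_eq_appLE]
      rfl
    · simp only [RingHom.comp_apply, MvPolynomial.eval₂Hom_X', MvPolynomial.map_X, ev']
      rw [crd, ← AffineSpace.map_appTop_coord V.ι i, Scheme.Hom.appTop, Scheme.Hom.app_eq_appLE]
      exact ConcreteCategory.congr_hom (Scheme.Hom.map_appLE j hle (homOfLE le_top).op) (AffineSpace.coord X i)
  have h1 : Function.Bijective ((j.appLE (pre n X V) ⊤ hle).hom.comp (ev n X V)) := by
    rw [key]
    exact hev.comp ⟨MvPolynomial.map_injective ρ hρ.1, MvPolynomial.map_surjective ρ hρ.2⟩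
  exact (Function.Bijective.of_comp_iff' hψ (ev n X V)).1 h1

variable {n}

/-- Multiplication by a coordinate stays injective after tensoring. -/
theorem tmul_coord_injective (hV : IsAffineOpen V) (i : n) (M : Type u) [AddCommGroup M] [Module Γ(X, V) M] :
    letI := ((𝔸(n; X) ↘ X).appLE V (pre n X V) le_rfl).hom.toAlgebra
    ∀ z : Γ(𝔸(n; X), pre n X V) ⊗[Γ(X, V)] M, crd n X V i • z = 0 → z = 0 := by
  letI := ((𝔸(n; X) ↘ X).appLE V (pre n X V) le_rfl).hom.toAlgebra
  intro z hz
  let e := RingEquiv.ofBijective (ev n X V) (bijective_ev n X hV)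
  have hC : ∀ r : Γ(X, V), e (MvPolynomial.C r) = algebraMap Γ(X, V) Γ(𝔸(n; X), pre n X V) r :=
    fun r => (MvPolynomial.eval₂Hom_C _ _ r).trans (by rw [Scheme.Hom.app_eq_appLE]; rfl)
  have hX : e (MvPolynomial.X i) = crd n X V i := MvPolynomial.eval₂Hom_X' _ _ i
  let d : Γ(𝔸(n; X), pre n X V) →ₗ[Γ(X, V)] Γ(𝔸(n; X), pre n X V) :=
    { toFun := fun f => e ((e.symm f).divMonomial (Finsupp.single i 1))
      map_add' := fun f g => by rw [map_add, MvPolynomial.add_divMonomial, map_add]
      map_smul' := fun r f => by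
        rw [RingHom.id_apply, Algebra.smul_def, Algebra.smul_def, ← hC, map_mul, RingEquiv.symm_apply_apply,
          ← map_mul]
        congr 1
        ext s
        rw [MvPolynomial.coeff_divMonomial, MvPolynomial.coeff_C_mul, MvPolynomial.coeff_C_mul,
          MvPolynomial.coeff_divMonomial] }
  let μ : Γ(𝔸(n; X), pre n X V) →ₗ[Γ(X, V)] Γ(𝔸(n; X), pre n X V) :=
    LinearMap.mulLeft Γ(X, V) (crd n X V i)
  have hdμ : d.comp μ = LinearMap.id := LinearMap.ext fun f => by
    show e ((e.symm (crd n X V i * f)).divMonomial (Finsupp.single i 1)) = f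
    rw [← hX, map_mul, RingEquiv.symm_apply_apply, MvPolynomial.X_mul_divMonomial, RingEquiv.apply_symm_apply]
  have hμ : ∀ w, μ.rTensor M w = crd n X V i • w := fun w => by
    induction w using TensorProduct.induction_on with
    | zero => simp
    | add a b ha hb => rw [map_add, ha, hb, smul_add]
    | tmul a b => rfl
  have := congrArg (fun l => l.rTensor M z) hdμ
  simp only [LinearMap.rTensor_comp, LinearMap.comp_apply, LinearMap.rTensor_id, LinearMap.id_apply] at this
  rw [hμ, hz, map_zero] at this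
  exact this.symm

end Groth.Agent.KA1
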